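import Mathlib
import Groth.Prelude.Def_Found
import Groth.Agent.N2Lib.Basic

/-!
# Stabilization of `(C ⊗_A B)_red` along the finite birational models of `K'`
-/

set_option autoImplicit false
set_option maxHeartbeats 1000000
set_option backward.isDefEq.respectTransparency false
universe u
open TensorProduct

noncomputable section

namespace Groth.Agent.RedStableLib

theorem nilp_sub {S X : Type*} [CommRing S] [CommRing X] (f g : S →+* X) {v z : S} (h : f z = g z)
    (hz : IsNilpotent (v - z)) : IsNilpotent (f v - g v) := by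
  rw [show f v - g v = f (v - z) - g (v - z) by rw [map_sub, map_sub, h]; ring]
  exact (Commute.all _ _).isNilpotent_sub (hz.map f) (hz.map g)

variable {A B K' : Type u} [CommRing A] [IsDomain A] [Field K'] [Algebra A K']

/-- The finite `A`-subalgebras with fraction field `K'`. -/
def PP (C : Subalgebra A K') : Prop :=
  Module.Finite A C ∧ ∀ x : K', ∃ a b : C, (b : K') ≠ 0 ∧ x * b = a

theorem PP.sup {C C' : Subalgebra A K'} (h : PP C) (h' : Module.Finite A C') : PP (C ⊔ C') := by
  haveI := h.1
  haveI := h'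
  refine ⟨Subalgebra.finite_sup C C', fun x => ?_⟩
  obtain ⟨a, b, hb, hab⟩ := h.2 x
  exact ⟨⟨a, (le_sup_left : C ≤ C ⊔ C') a.2⟩, ⟨b, (le_sup_left : C ≤ C ⊔ C') b.2⟩, hb, hab⟩

theorem finite_adjoin_singleton {x : K'} (hx : IsIntegral A x) :
    Module.Finite A (Algebra.adjoin A ({x} : Set K')) :=
  Module.Finite.iff_fg.2 hx.fg_adjoin_singleton

variable [Algebra (FractionRing A) K'] [IsScalarTower A (FractionRing A) K']
  [FiniteDimensional (FractionRing A) K']

theorem exists_PP : ∃ C : Subalgebra A K', PP C := by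
  classical
  obtain ⟨s, b, hb⟩ := FiniteDimensional.exists_is_basis_integral A (FractionRing A) K'
  refine ⟨Algebra.adjoin A (Set.range b), ?_, fun x => ?_⟩
  · exact Module.Finite.iff_fg.2 (fg_adjoin_of_finite (Set.finite_range b)
      (by rintro _ ⟨i, rfl⟩; exact hb i))
  · obtain ⟨d, hd⟩ := IsLocalization.exist_integer_multiples_of_finite (nonZeroDivisors A)
      (fun i => b.repr x i)
    refine ⟨(⟨(d : A) • x, ?_⟩ : Algebra.adjoin A (Set.range b)),
      (⟨algebraMap A K' (d : A), Subalgebra.algebraMap_mem _ _⟩ : Algebra.adjoin A (Set.range b)), ?_, ?_⟩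
    · rw [← b.sum_repr x, Finset.smul_sum]
      refine Subalgebra.sum_mem _ fun i _ => ?_
      obtain ⟨a, ha⟩ := hd i
      rw [← smul_assoc, ← ha, algebraMap_smul]
      exact Subalgebra.smul_mem _ (Algebra.subset_adjoin (Set.mem_range_self i)) a
    · show algebraMap A K' (d : A) ≠ 0
      rw [IsScalarTower.algebraMap_apply A (FractionRing A) K']
      exact (map_ne_zero_iff _ (algebraMap (FractionRing A) K').injective).2
        (IsFractionRing.to_map_ne_zero_of_mem_nonZeroDivisors d.2)
    · show x * algebraMap A K' (d : A) = (d : A) • x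
      rw [Algebra.smul_def, mul_comm]

theorem flat_of_fraction : Module.Flat A K' :=
  haveI : Module.Flat A (FractionRing A) := IsLocalization.flat _ (nonZeroDivisors A)
  Module.Flat.trans A (FractionRing A) K'

variable [CommRing B] [Algebra A B]

theorem finite_aux : ∃ (T : Type u) (_ : CommRing T) (_ : Algebra B T) (_ : Algebra T (B ⊗[A] K'))
    (_ : IsScalarTower B T (B ⊗[A] K')),
    IsLocalization (Algebra.algebraMapSubmonoid B (nonZeroDivisors A)) T ∧
      Module.Finite T (B ⊗[A] K') := by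
  classical
  let K := FractionRing A
  let ρ : B ⊗[A] K →ₐ[B] B ⊗[A] K' :=
    Algebra.TensorProduct.map (AlgHom.id B B) (IsScalarTower.toAlgHom A K K')
  letI : Algebra (B ⊗[A] K) (B ⊗[A] K') := ρ.toRingHom.toAlgebra
  haveI : IsScalarTower B (B ⊗[A] K) (B ⊗[A] K') := IsScalarTower.of_algebraMap_eq' ρ.comp_algebraMap.symm
  refine ⟨B ⊗[A] K, inferInstance, inferInstance, inferInstance, inferInstance, inferInstance, ?_⟩
  let bK := Module.finBasis K K'
  refine ⟨⟨Finset.univ.image fun i => (1 : B) ⊗ₜ[A] bK i, ?_⟩⟩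
  rw [Finset.coe_image, Finset.coe_univ, Set.image_univ, eq_top_iff]
  rintro z -
  induction z using TensorProduct.induction_on with
  | zero => exact zero_mem _
  | add x y hx hy => exact add_mem hx hy
  | tmul c x =>
    rw [← bK.sum_repr x, TensorProduct.tmul_sum]
    refine Submodule.sum_mem _ fun i _ => ?_
    have h : c ⊗ₜ[A] (bK.repr x i • bK i) =
        (c ⊗ₜ[A] bK.repr x i) • ((1 : B) ⊗ₜ[A] bK i) := by
      show _ = ρ (c ⊗ₜ[A] bK.repr x i) * _
      rw [Algebra.TensorProduct.map_tmul, Algebra.TensorProduct.tmul_mul_tmul, Algebra.smul_def]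
      simp
    rw [h]
    exact Submodule.smul_mem _ _ (Submodule.subset_span ⟨i, rfl⟩)

variable [IsNoetherianRing B] [Module.Flat A B]

/-- All `B ⊗ C` land, modulo nilpotents, in a fixed finite `B`-module inside a reduced algebra. -/
theorem exists_target
    (hJ : ∀ (q : Ideal B) [q.IsPrime], q ∈ minimalPrimes B → CAlg.IsN2 (B ⧸ q)) :
    ∃ (L : Type u) (_ : CommRing L) (_ : Algebra B L) (Ψ : B ⊗[A] K' →ₐ[B] L) (M : Submodule B L),
      (∀ z, Ψ z = 0 → IsNilpotent z) ∧ M.FG ∧ ∀ z : B ⊗[A] K', IsIntegral B z → Ψ z ∈ M := by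
  classical
  haveI : Module.Flat A K' := flat_of_fraction
  obtain ⟨T, _, _, _, _, hT, hfin⟩ := finite_aux (A := A) (B := B) (K' := K')
  haveI : IsNoetherianRing T :=
    IsLocalization.isNoetherianRing (Algebra.algebraMapSubmonoid B (nonZeroDivisors A)) T inferInstance
  haveI := hfin
  haveI : IsNoetherianRing (B ⊗[A] K') := IsNoetherianRing.of_finite T _
  let R0 := B ⊗[A] K'
  haveI : Finite ↥(minimalPrimes R0) := (minimalPrimes.finite_of_isNoetherianRing R0).to_subtype
  have hprime : ∀ Q : ↥(minimalPrimes R0), (Q : Ideal R0).IsPrime := fun Q =>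
    Ideal.minimalPrimes_isPrime Q.2
  let L : Type u := ∀ Q : ↥(minimalPrimes R0), FractionRing (R0 ⧸ (Q : Ideal R0))
  let Ψ : R0 →ₐ[B] L := Pi.algHom B _ fun Q =>
    (IsScalarTower.toAlgHom B (R0 ⧸ (Q : Ideal R0)) (FractionRing (R0 ⧸ (Q : Ideal R0)))).comp
      (Ideal.Quotient.mkₐ B (Q : Ideal R0))
  let M : Submodule B L := Submodule.pi Set.univ fun Q =>
    Subalgebra.toSubmodule (integralClosure B (FractionRing (R0 ⧸ (Q : Ideal R0))))
  refine ⟨L, inferInstance, inferInstance, Ψ, M, fun z hz => ?_, ?_, fun z hz Q _ => ?_⟩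
  · rw [← mem_nilradical, nilradical, ← Ideal.sInf_minimalPrimes, Ideal.mem_sInf]
    intro Q hQ
    have h := congrFun hz ⟨Q, hQ⟩
    haveI := hprime ⟨Q, hQ⟩
    exact Ideal.Quotient.eq_zero_iff_mem.1
      ((FaithfulSMul.algebraMap_eq_zero_iff (R0 ⧸ Q) (FractionRing (R0 ⧸ Q))).1 h)
  · refine Submodule.fg_pi fun Q => Module.Finite.iff_fg.1 ?_
    haveI := hprime Q
    let q : Ideal B := (Q : Ideal R0).under B
    have hqmin : q ∈ minimalPrimes B := by
      refine ⟨⟨inferInstance, bot_le⟩, fun p hp hle => ?_⟩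
      haveI := hp.1
      haveI : (Q : Ideal R0).LiesOver q := ⟨rfl⟩
      obtain ⟨P, hPQ, hP, hPp⟩ := Ideal.exists_ideal_le_liesOver_of_le (Q : Ideal R0) (q := q) hle
      have hQP : P = (Q : Ideal R0) := le_antisymm hPQ (Q.2.2 ⟨hP, bot_le⟩ hPQ)
      show q ≤ p
      rw [hPp.over, hQP]
    let F := FractionRing (R0 ⧸ (Q : Ideal R0))
    haveI : (Q : Ideal R0).LiesOver q := ⟨rfl⟩
    haveI : IsScalarTower B (B ⧸ q) F := inferInstance
    haveI : FaithfulSMul (B ⧸ q) F := (faithfulSMul_iff_algebraMap_injective _ _).2 (by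
      rw [IsScalarTower.algebraMap_eq (B ⧸ q) (R0 ⧸ (Q : Ideal R0)) F]
      exact (IsFractionRing.injective (R0 ⧸ (Q : Ideal R0)) F).comp
        (FaithfulSMul.algebraMap_injective (B ⧸ q) (R0 ⧸ (Q : Ideal R0))))
    let k := FractionRing (B ⧸ q)
    letI : Algebra k F := FractionRing.liftAlgebra (B ⧸ q) F
    haveI : FiniteDimensional k F := by
      let φ : R0 →ₐ[B] F := (IsScalarTower.toAlgHom B (R0 ⧸ (Q : Ideal R0)) F).comp
        (Ideal.Quotient.mkₐ B (Q : Ideal R0))
      haveI : IsScalarTower B k F := IsScalarTower.of_algebraMap_eq fun b => by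
        rw [IsScalarTower.algebraMap_apply B (B ⧸ q) F, IsScalarTower.algebraMap_apply B (B ⧸ q) k,
          ← IsScalarTower.algebraMap_apply (B ⧸ q) k F]
      obtain ⟨n, v, hv⟩ := Module.Finite.exists_fin (R := T) (M := R0)
      let W : Submodule k F := Submodule.span k (Set.range fun i => φ (v i))
      have hTk : ∀ t : T, ∃ c : k, φ (algebraMap T R0 t) = algebraMap k F c := by
        intro t
        obtain ⟨⟨b, s⟩, hbs⟩ := IsLocalization.surj (Algebra.algebraMapSubmonoid B (nonZeroDivisors A)) t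
        refine ⟨algebraMap B k b / algebraMap B k (s : B), ?_⟩
        have hu : IsUnit (algebraMap B F (s : B)) := by
          have h := ((IsLocalization.map_units T s).map (algebraMap T R0)).map φ
          rwa [← IsScalarTower.algebraMap_apply, AlgHom.commutes] at h
        rw [map_div₀, ← IsScalarTower.algebraMap_apply, ← IsScalarTower.algebraMap_apply,
          eq_div_iff hu.ne_zero, ← φ.commutes, ← φ.commutes b, ← map_mul,
          IsScalarTower.algebraMap_apply B T R0, IsScalarTower.algebraMap_apply B T R0 b, ← map_mul, hbs]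
      have hW : ∀ z, φ z ∈ W := fun z => by
        have hz : z ∈ Submodule.span T (Set.range v) := by rw [hv]; trivial
        induction hz using Submodule.span_induction with
        | mem x hx => obtain ⟨i, rfl⟩ := hx; exact Submodule.subset_span ⟨i, rfl⟩
        | zero => rw [map_zero]; exact zero_mem _
        | add x y _ _ hx hy => rw [map_add]; exact add_mem hx hy
        | smul t x _ hx =>
          obtain ⟨c, hc⟩ := hTk t
          rw [Algebra.smul_def, map_mul, hc, ← Algebra.smul_def]
          exact Submodule.smul_mem _ c hx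
      let S : Subalgebra k F := Algebra.adjoin k (Set.range φ)
      have hS : ∀ y ∈ S, y ∈ W := by
        intro y hy
        have hcl : Subalgebra.toSubmodule S ≤ W := by
          rw [Algebra.adjoin_eq_span, Submodule.span_le]
          have : Submonoid.closure (Set.range φ) = MonoidHom.mrange (φ : R0 →* F) :=
            Submonoid.closure_eq (MonoidHom.mrange (φ : R0 →* F))
          rw [this]
          rintro _ ⟨z, rfl⟩
          exact hW z
        exact hcl hy
      haveI : FiniteDimensional k W := FiniteDimensional.span_of_finite k (Set.finite_range _)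
      haveI : FiniteDimensional k S :=
        Submodule.finiteDimensional_of_le (S₂ := W) (S₁ := Subalgebra.toSubmodule S) hS
      have hSfield : IsField S := by
        haveI : Algebra.IsIntegral k S := Algebra.IsIntegral.of_finite k S
        exact isField_of_isIntegral_of_isField' (Field.toIsField k)
      have htop : S = ⊤ := by
        refine eq_top_iff.2 fun y _ => ?_
        obtain ⟨a, b, hb, rfl⟩ := IsFractionRing.div_surjective (A := R0 ⧸ (Q : Ideal R0)) y
        obtain ⟨a, rfl⟩ := Ideal.Quotient.mk_surjective a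
        obtain ⟨b', rfl⟩ := Ideal.Quotient.mk_surjective b
        have hmem : ∀ z : R0, algebraMap (R0 ⧸ (Q : Ideal R0)) F (Ideal.Quotient.mk _ z) ∈ S :=
          fun z => Algebra.subset_adjoin ⟨z, rfl⟩
        have hb0 : algebraMap (R0 ⧸ (Q : Ideal R0)) F (Ideal.Quotient.mk _ b') ≠ 0 :=
          IsFractionRing.to_map_ne_zero_of_mem_nonZeroDivisors hb
        obtain ⟨w, hw⟩ := hSfield.mul_inv_cancel (a := ⟨_, hmem b'⟩) (fun h => hb0 (congrArg Subtype.val h))
        rw [div_eq_mul_inv]
        refine mul_mem (hmem a) ?_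
        rw [show (algebraMap (R0 ⧸ (Q : Ideal R0)) F (Ideal.Quotient.mk _ b'))⁻¹ = (w : F) from
          inv_eq_of_mul_eq_one_right (congrArg Subtype.val hw)]
        exact w.2
      exact Module.Finite.of_surjective S.val.toLinearMap fun y => ⟨⟨y, htop ▸ trivial⟩, rfl⟩
    haveI : Module.Finite (B ⧸ q) (integralClosure (B ⧸ q) F) :=
      N2Lib.finite_of_isN2 (hJ q hqmin) k F
    haveI : Module.Finite B (integralClosure (B ⧸ q) F) := Module.Finite.trans (B ⧸ q) _
    let ι : integralClosure B F →ₗ[B] integralClosure (B ⧸ q) F :=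
      { toFun := fun y => ⟨y.1, y.2.tower_top⟩, map_add' := fun _ _ => rfl, map_smul' := fun _ _ => rfl }
    haveI : IsNoetherian B (integralClosure (B ⧸ q) F) := isNoetherian_of_isNoetherianRing_of_finite B _
    exact Module.Finite.of_injective ι fun a b h => Subtype.ext (congrArg Subtype.val h :)
  · exact (hz.map Ψ).map (Pi.evalAlgHom B (fun Q : ↥(minimalPrimes R0) => FractionRing (R0 ⧸ (Q : Ideal R0))) Q)

/-- Some finite birational model makes all bigger ones agree modulo nilpotents. -/
theorem exists_stable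
    (hJ : ∀ (q : Ideal B) [q.IsPrime], q ∈ minimalPrimes B → CAlg.IsN2 (B ⧸ q)) :
    ∃ Cα : Subalgebra A K', PP Cα ∧ ∀ C : Subalgebra A K', PP C → ∀ hle : Cα ≤ C,
      (∀ x : ↥Cα ⊗[A] B, IsNilpotent (Algebra.TensorProduct.map (Subalgebra.inclusion hle) (AlgHom.id A B) x) →
          IsNilpotent x) ∧
      (∀ y : ↥C ⊗[A] B, ∃ x : ↥Cα ⊗[A] B,
          IsNilpotent (Algebra.TensorProduct.map (Subalgebra.inclusion hle) (AlgHom.id A B) x - y)) := by
  obtain ⟨L, _, _, Ψ, M, hker, hM, hint⟩ := exists_target (A := A) (B := B) (K' := K') hJ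
  let g : ∀ C : Subalgebra A K', B ⊗[A] ↥C →ₐ[B] B ⊗[A] K' := fun C =>
    Algebra.TensorProduct.map (AlgHom.id B B) C.val
  let S : Subalgebra A K' → Submodule B L := fun C => LinearMap.range (Ψ.comp (g C)).toLinearMap
  have hSM : ∀ C, PP C → S C ≤ M := by
    rintro C hC _ ⟨z, rfl⟩
    haveI := hC.1
    exact hint _ ((Algebra.IsIntegral.isIntegral (R := B) z).map (g C))
  haveI : IsNoetherian B M := isNoetherian_of_fg_of_noetherian M hM
  obtain ⟨C0, hC0⟩ := exists_PP (A := A) (K' := K')
  obtain ⟨N, ⟨Cα, hα, rfl⟩, hmax⟩ := set_has_maximal_iff_noetherian.2 inferInstance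
    {N : Submodule B M | ∃ C, PP C ∧ N = (S C).comap M.subtype} ⟨_, C0, hC0, rfl⟩
  refine ⟨Cα, hα, fun C hC hle => ⟨fun x hx => ?_, fun y => ?_⟩⟩
  · obtain ⟨n, hn⟩ := hx
    refine ⟨n, (injective_iff_map_eq_zero _).1 ?_ _ ((map_pow _ x n).trans hn)⟩
    exact Module.Flat.rTensor_preserves_injective_linearMap _ (Subalgebra.inclusion_injective hle)
  let mp := Algebra.TensorProduct.map (Subalgebra.inclusion hle) (AlgHom.id A B)
  let cα := Algebra.TensorProduct.comm A ↥Cα B
  let c := Algebra.TensorProduct.comm A ↥C B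
  have hg : ∀ x, g C (c (mp x)) = g Cα (cα x) := fun x => by
    induction x using TensorProduct.induction_on with
    | zero => simp
    | add x y hx hy => simp only [map_add, hx, hy]
    | tmul a b => rfl
  have hmono : (S Cα).comap M.subtype ≤ (S C).comap M.subtype := by
    refine Submodule.comap_mono ?_
    rintro _ ⟨z, rfl⟩
    refine ⟨c (mp (cα.symm z)), ?_⟩
    show Ψ (g C _) = Ψ (g Cα z)
    rw [hg, AlgEquiv.apply_symm_apply]
  have heq : (S Cα).comap M.subtype = (S C).comap M.subtype := by
    by_contra hne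
    exact hmax _ ⟨C, hC, rfl⟩ (lt_of_le_of_ne hmono hne)
  have hy : (⟨Ψ (g C (c y)), hSM C hC ⟨c y, rfl⟩⟩ : M) ∈ (S Cα).comap M.subtype := by
    rw [heq]; exact ⟨c y, rfl⟩
  obtain ⟨z, hz⟩ := hy
  refine ⟨cα.symm z, ?_⟩
  have h1 : IsNilpotent (g C (c (mp (cα.symm z) - y))) := hker _ (by
    rw [map_sub, map_sub, map_sub, hg, AlgEquiv.apply_symm_apply, sub_eq_zero]
    exact hz)
  obtain ⟨n, hn⟩ := h1
  refine ⟨n, c.injective ((?_ : Function.Injective (g C)) ?_)⟩
  · exact Module.Flat.lTensor_preserves_injective_linearMap C.val.toLinearMap Subtype.val_injective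
  · rw [map_zero, map_zero, map_pow, map_pow]
    exact hn

/-- If moreover `B` is faithfully flat, `integralClosure A K'` is radicial over such a model. -/
theorem universallyInjective_of_stable [Module.FaithfullyFlat A B] (Cα : Subalgebra A K') (hα : PP Cα)
    (h : ∀ C : Subalgebra A K', PP C → ∀ hle : Cα ≤ C, ∀ y : ↥C ⊗[A] B, ∃ x : ↥Cα ⊗[A] B,
          IsNilpotent (Algebra.TensorProduct.map (Subalgebra.inclusion hle) (AlgHom.id A B) x - y))
    (hint : Cα ≤ integralClosure A K') :
    AlgebraicGeometry.UniversallyInjective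
      (AlgebraicGeometry.Spec.map (CommRingCat.ofHom (Subalgebra.inclusion hint).toRingHom)) := by
  letI : Algebra Cα (integralClosure A K') := (Subalgebra.inclusion hint).toRingHom.toAlgebra
  haveI : IsScalarTower A Cα (integralClosure A K') := IsScalarTower.of_algebraMap_eq fun _ => rfl
  let E := integralClosure A K'
  have key : ∀ x : E, IsNilpotent (x ⊗ₜ[Cα] (1 : E) - (1 : E) ⊗ₜ[Cα] x) := by
    intro x
    let C : Subalgebra A K' := Cα ⊔ Algebra.adjoin A {(x : K')}
    have hC : PP C := hα.sup (finite_adjoin_singleton x.2)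
    have hle : Cα ≤ C := le_sup_left
    have hCE : C ≤ E := sup_le hint (Algebra.adjoin_le (Set.singleton_subset_iff.2 x.2))
    letI : Algebra Cα C := (Subalgebra.inclusion hle).toRingHom.toAlgebra
    haveI : IsScalarTower A Cα C := IsScalarTower.of_algebraMap_eq fun _ => rfl
    let xC : C := ⟨x, (le_sup_right : _ ≤ C) (Algebra.subset_adjoin rfl)⟩
    obtain ⟨z, hz⟩ := h C hC hle (xC ⊗ₜ[A] 1)
    let W := C ⊗[Cα] C
    let j1 : ↥C ⊗[A] B →ₐ[A] W ⊗[A] B := Algebra.TensorProduct.map
      ((Algebra.TensorProduct.includeLeft : C →ₐ[Cα] W).restrictScalars A) (AlgHom.id A B)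
    let j2 : ↥C ⊗[A] B →ₐ[A] W ⊗[A] B := Algebra.TensorProduct.map
      ((Algebra.TensorProduct.includeRight : C →ₐ[Cα] W).restrictScalars A) (AlgHom.id A B)
    let mp := Algebra.TensorProduct.map (Subalgebra.inclusion hle) (AlgHom.id A B)
    have hagree : ∀ w, j1 (mp w) = j2 (mp w) := fun w => by
      induction w using TensorProduct.induction_on with
      | zero => simp
      | add a b ha hb => simp only [map_add, ha, hb]
      | tmul a b =>
        simp only [j1, j2, mp, Algebra.TensorProduct.map_tmul, AlgHom.coe_restrictScalars',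
          Algebra.TensorProduct.includeLeft_apply, Algebra.TensorProduct.includeRight_apply]
        congr 1
        show (algebraMap Cα C a) ⊗ₜ[Cα] (1 : C) = (1 : C) ⊗ₜ[Cα] (algebraMap Cα C a)
        rw [Algebra.algebraMap_eq_smul_one, TensorProduct.smul_tmul]
    have hW : IsNilpotent (xC ⊗ₜ[Cα] (1 : C) - (1 : C) ⊗ₜ[Cα] xC) := by
      have h1 : IsNilpotent ((xC ⊗ₜ[Cα] (1 : C) - (1 : C) ⊗ₜ[Cα] xC) ⊗ₜ[A] (1 : B) : W ⊗[A] B) := by
        have hz' : IsNilpotent (xC ⊗ₜ[A] (1 : B) - mp z) := by
          rw [← neg_sub]; exact hz.neg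
        rw [TensorProduct.sub_tmul]
        exact nilp_sub (X := W ⊗[A] B) j1.toRingHom j2.toRingHom (hagree z) hz'
      obtain ⟨n, hn⟩ := h1
      refine ⟨n, Module.FaithfullyFlat.tensorProduct_mk_injective (A := A) (B := B) W ?_⟩
      rw [Algebra.TensorProduct.tmul_pow, one_pow] at hn
      have := congrArg (Algebra.TensorProduct.comm A W B) hn
      rw [map_zero, Algebra.TensorProduct.comm_tmul] at this
      rw [map_zero]
      exact this
    let i : C →ₐ[Cα] E :=
      { (Subalgebra.inclusion hCE).toRingHom with commutes' := fun _ => rfl }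
    have := hW.map (Algebra.TensorProduct.map i i)
    rwa [map_sub, Algebra.TensorProduct.map_tmul, Algebra.TensorProduct.map_tmul, map_one,
      show i xC = x from rfl] at this
  rw [AlgebraicGeometry.UniversallyInjective.iff_diagonal]
  show AlgebraicGeometry.Surjective (CategoryTheory.Limits.pullback.diagonal
    (AlgebraicGeometry.Spec.map (CommRingCat.ofHom (algebraMap Cα E))))
  rw [AlgebraicGeometry.diagonal_SpecMap,
    CategoryTheory.MorphismProperty.cancel_right_of_respectsIso @AlgebraicGeometry.Surjective]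
  constructor
  intro P
  have hker : RingHom.ker (Algebra.TensorProduct.lmul' Cα (S := E)).toRingHom ≤ P.asIdeal := by
    refine le_trans ?_ (nilradical_le_prime P.asIdeal)
    show KaehlerDifferential.ideal Cα E ≤ _
    rw [← KaehlerDifferential.span_range_eq_ideal, Ideal.span_le]
    rintro _ ⟨x, rfl⟩
    rw [SetLike.mem_coe, mem_nilradical, ← isNilpotent_neg_iff, neg_sub]
    exact key x
  obtain ⟨p, hp⟩ := (_root_.range_comap_of_surjective _ _
    (fun e => ⟨e ⊗ₜ 1, by simp⟩ : Function.Surjective (Algebra.TensorProduct.lmul' Cα (S := E)).toRingHom)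
    ▸ (show P ∈ PrimeSpectrum.zeroLocus
      (RingHom.ker (Algebra.TensorProduct.lmul' Cα (S := E)).toRingHom : Set _) from hker) :
      P ∈ Set.range (PrimeSpectrum.comap (Algebra.TensorProduct.lmul' Cα (S := E)).toRingHom))
  exact ⟨p, hp⟩

end Groth.Agent.RedStableLib
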